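import Cfsg.Agent.Lib.ClassCount.Bounds.Tools
import Cfsg.Agent.Lib.Perm.ExtremelyPrimitiveSolvable

/-!
# A soluble permutation group of degree `n` has at most `3 ^ (n - 1)` classes
-/

set_option autoImplicit false
set_option linter.all false

namespace CfsgLib.ClassBounds

open scoped Classical
open MulAction
open scoped Pointwise

theorem small_cases : ∀ t < 64, ∀ a < 7, 1 ≤ a → 2 ^ a ≤ t →
    t * (t - 1).descFactorial a ≤ 3 ^ (t - 1) := by decide +kernel

theorem affine_arith {t a : ℕ} (ha : 1 ≤ a) (h : 2 ^ a ≤ t) :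
    t * (t - 1).descFactorial a ≤ 3 ^ (t - 1) := by
  rcases Nat.lt_or_ge t 64 with ht | ht
  · exact small_cases t ht a (by
      by_contra h7
      have := Nat.pow_le_pow_right (show 0 < 2 by norm_num) (le_of_not_gt h7)
      omega) ha h
  set L := Nat.log 2 t with hL
  have hlo : 2 ^ L ≤ t := Nat.pow_log_le_self 2 (by omega)
  have hhi : t ≤ 2 ^ (L + 1) := (Nat.lt_pow_succ_log_self (by norm_num) t).le
  have haL : a ≤ L := Nat.le_log_of_pow_le (by norm_num) h
  have h6 : 6 ≤ L := Nat.le_log_of_pow_le (by norm_num) ht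
  have hkey : ∀ m, 6 ≤ m → (m + 1) * (m + 1) + 1 ≤ 2 ^ m := by
    intro m hm
    induction m, hm using Nat.le_induction with
    | base => norm_num
    | succ m hm ih => rw [pow_succ]; nlinarith
  calc t * (t - 1).descFactorial a ≤ t * (t - 1) ^ a :=
        Nat.mul_le_mul_left _ (Nat.descFactorial_le_pow _ _)
    _ ≤ t * t ^ a := Nat.mul_le_mul_left _ (Nat.pow_le_pow_left (by omega) _)
    _ = t ^ (a + 1) := (pow_succ' t a).symm
    _ ≤ t ^ (L + 1) := Nat.pow_le_pow_right (by omega) (by omega)
    _ ≤ (2 ^ (L + 1)) ^ (L + 1) := Nat.pow_le_pow_left hhi _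
    _ = 2 ^ ((L + 1) * (L + 1)) := by rw [← pow_mul]
    _ ≤ 3 ^ ((L + 1) * (L + 1)) := Nat.pow_le_pow_left (by norm_num) _
    _ ≤ 3 ^ (t - 1) := Nat.pow_le_pow_right (by norm_num) (by have := hkey L h6; omega)

universe u v

/-- A primitive soluble group. -/
theorem card_le_of_primitive {S : Type u} [Group S] [Finite S] [Group.IsSolvable S] {Ω : Type v}
    [MulAction S Ω] [FaithfulSMul S Ω] [Finite Ω] (hprim : IsPreprimitive S Ω) (hn : 2 ≤ Nat.card Ω) :
    Nat.card S ≤ 3 ^ (Nat.card Ω - 1) := by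
  haveI := hprim
  haveI : Nontrivial Ω := Finite.one_lt_card_iff_nontrivial.1 hn
  haveI : Nontrivial S := by
    obtain ⟨x, y, hxy⟩ := exists_pair_ne Ω
    obtain ⟨g, hg⟩ := exists_smul_eq S x y
    exact ⟨g, 1, fun e => hxy (by rw [← hg, e, one_smul])⟩
  obtain ⟨α⟩ := (inferInstance : Nonempty Ω)
  obtain ⟨N, hNn, hN1, hNc, ⟨r, hr, -, hexp⟩, hbij, -, hfaith⟩ :=
    CfsgLib.Perm.ExtremelyPrimitive.exists_regular_normal hprim α
  haveI := hNn
  haveI := Fact.mk hr
  letI : CommGroup N := { (inferInstance : Group N) with mul_comm := hNc.is_comm.comm }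
  let H := stabilizer S α
  letI : DistribMulAction H (Additive N) :=
    { smul := fun h v => Additive.ofMul (MulAut.conjNormal (H := N) (h : S) (Additive.toMul v))
      one_smul := fun v => Additive.toMul.injective (Subtype.ext (by
        show ((MulAut.conjNormal (1 : S) (Additive.toMul v) : N) : S) = _
        rw [MulAut.conjNormal_apply]; simp))
      mul_smul := fun g h v => Additive.toMul.injective (Subtype.ext (by
        show ((MulAut.conjNormal ((g : S) * h) (Additive.toMul v) : N) : S)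
          = ((MulAut.conjNormal (g : S) (MulAut.conjNormal (h : S) (Additive.toMul v)) : N) : S)
        rw [MulAut.conjNormal_apply, MulAut.conjNormal_apply, MulAut.conjNormal_apply]; group))
      smul_zero := fun h => congrArg Additive.ofMul (map_one (MulAut.conjNormal (H := N) (h : S)))
      smul_add := fun h a b => congrArg Additive.ofMul
        (map_mul (MulAut.conjNormal (H := N) (h : S)) (Additive.toMul a) (Additive.toMul b)) }
  obtain ⟨a, ha, hH⟩ := card_le_descFactorial (r := r) (M := Additive N) (H := H)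
    (fun v => congrArg Additive.ofMul (Subtype.ext (by simpa using hexp _ (Additive.toMul v).2) :
      (Additive.toMul v) ^ r = 1))
    (fun h hh => Subtype.ext (hfaith (h : S) h.2 fun n hn' => by
      have e : (MulAut.conjNormal (H := N) (h : S) ⟨n, hn'⟩ : S) = n :=
        congrArg (fun w : Additive N => ((Additive.toMul w : N) : S)) (hh (Additive.ofMul ⟨n, hn'⟩))
      rw [MulAut.conjNormal_apply] at e
      exact mul_inv_eq_iff_eq_mul.1 e))
  have hMΩ : Nat.card (Additive N) = Nat.card Ω :=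
    Nat.card_congr (Additive.toMul.trans (Equiv.ofBijective _ hbij))
  rw [hMΩ] at ha hH
  have hidx : H.index = Nat.card Ω := by
    rw [index_stabilizer, orbit_eq_univ, Set.ncard_univ]
  calc Nat.card S = Nat.card Ω * Nat.card H := by rw [← H.index_mul_card, hidx]
    _ ≤ Nat.card Ω * (Nat.card Ω - 1).descFactorial a := Nat.mul_le_mul_left _ hH
    _ ≤ _ := affine_arith (by
        rcases Nat.eq_zero_or_pos a with rfl | h0
        · rw [pow_zero] at ha; omega
        · exact h0) (ha ▸ Nat.pow_le_pow_left hr.two_le a)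

theorem sum_sub_one {ι : Type*} (T : Finset ι) (c : ι → ℕ) (hc : ∀ i ∈ T, 1 ≤ c i) :
    ∑ i ∈ T, (c i - 1) + T.card = ∑ i ∈ T, c i := by
  induction T using Finset.induction_on with
  | empty => simp
  | insert i T hi ih =>
    rw [Finset.sum_insert hi, Finset.sum_insert hi, Finset.card_insert_of_notMem hi,
      ← ih fun j hj => hc j (Finset.mem_insert_of_mem hj)]
    have := hc i (Finset.mem_insert_self _ _)
    omega

/-- Invariant non-empty sets with union everything. -/
theorem kcl_le_of_parts {S : Type u} [Group S] [Finite S] [Group.IsSolvable S] {Ω : Type v}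
    [MulAction S Ω] [FaithfulSMul S Ω] [Finite Ω]
    (ih : ∀ (Ω' : Type v) [Finite Ω'] (S' : Subgroup (Equiv.Perm Ω')), Nat.card Ω' < Nat.card Ω →
      Group.IsSolvable S' → kcl S' ≤ 3 ^ (Nat.card Ω' - 1))
    {ι : Type*} [Fintype ι] (q : Ω → ι) (hq : Function.Surjective q)
    (hinv : ∀ (g : S) x, q (g • x) = q x) (hι : 2 ≤ Nat.card ι) :
    kcl S ≤ 3 ^ (Nat.card Ω - Nat.card ι) := by
  have := Fintype.ofFinite Ω
  let Y : ι → SubMulAction S Ω := fun i =>
    { carrier := {x | q x = i}, smul_mem' := fun g x hx => (hinv g x).trans hx }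
  let φ : ∀ i, S →* Equiv.Perm (Y i) := fun i => MulAction.toPermHom S (Y i)
  have hsum : ∑ i, Nat.card (Y i) = Nat.card Ω := by
    rw [← Nat.card_sigma]
    exact Nat.card_congr (Equiv.sigmaFiberEquiv q)
  have hpos : ∀ i, 1 ≤ Nat.card (Y i) := fun i => by
    obtain ⟨x, hx⟩ := hq i
    have : Nonempty (Y i) := ⟨⟨x, hx⟩⟩
    exact Nat.card_pos
  have hlt : ∀ i, Nat.card (Y i) < Nat.card Ω := by
    intro i
    obtain ⟨j, hj⟩ : ∃ j, j ≠ i := by
      by_contra h
      push Not at h
      have : Subsingleton ι := ⟨fun a b => (h a).trans (h b).symm⟩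
      have := Finite.card_le_one_iff_subsingleton.2 this
      omega
    rw [← hsum]
    exact Finset.single_lt_sum (f := fun k => Nat.card (Y k)) hj (Finset.mem_univ _) (Finset.mem_univ _)
      (hpos j) fun _ _ _ => Nat.zero_le _
  have h := kcl_le_prod Finset.univ φ (fun i => 3 ^ (Nat.card (Y i) - 1))
    (fun i _ H => by
      refine ih (Y i) _ (hlt i) ?_
      exact Group.isSolvable_of_surjective (f := (φ i).subgroupMap H) ((φ i).subgroupMap_surjective H))
    ⊤ (fun g _ hg => FaithfulSMul.eq_of_smul_eq_smul (α := Ω) fun x => by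
      rw [one_smul]
      exact congrArg Subtype.val (Equiv.ext_iff.1 (hg (q x) (Finset.mem_univ _)) ⟨x, rfl⟩))
  rw [kcl_congr Subgroup.topEquiv, Finset.prod_pow_eq_pow_sum] at h
  refine h.trans (le_of_eq ?_)
  congr 1
  have h1 := sum_sub_one Finset.univ (fun i => Nat.card (Y i)) fun i _ => hpos i
  rw [hsum, Finset.card_univ, ← Nat.card_eq_fintype_card] at h1
  omega

/-- A soluble permutation group of degree `n` has at most `3 ^ (n - 1)` classes. -/
theorem kcl_solvable_perm : ∀ (n : ℕ) (Ω : Type u) [Finite Ω] (S : Subgroup (Equiv.Perm Ω)),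
    Nat.card Ω = n → Group.IsSolvable S → kcl S ≤ 3 ^ (n - 1) := by
  intro n
  induction n using Nat.strong_induction_on with
  | _ n ih =>
  intro Ω _ S hn hS
  have := Fintype.ofFinite Ω
  have ih' : ∀ (Ω' : Type u) [Finite Ω'] (S' : Subgroup (Equiv.Perm Ω')), Nat.card Ω' < Nat.card Ω →
      Group.IsSolvable S' → kcl S' ≤ 3 ^ (Nat.card Ω' - 1) :=
    fun Ω' _ S' hlt hS' => ih _ (hn ▸ hlt) Ω' S' rfl hS'
  rcases Nat.lt_or_ge n 2 with h2 | h2
  · have : Subsingleton Ω := Finite.card_le_one_iff_subsingleton.1 (by omega)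
    have h1 := kcl_le_card S
    have : Nat.card S ≤ 1 := Finite.card_le_one_iff_subsingleton.2 inferInstance
    exact (h1.trans this).trans (Nat.one_le_pow _ _ (by norm_num))
  by_cases htr : IsPretransitive S Ω
  swap
  · -- orbits
    let q : Ω → orbitRel.Quotient S Ω := Quotient.mk''
    have := Fintype.ofFinite (orbitRel.Quotient S Ω)
    have hι : 2 ≤ Nat.card (orbitRel.Quotient S Ω) := by
      by_contra hle
      have : Subsingleton (orbitRel.Quotient S Ω) := Finite.card_le_one_iff_subsingleton.1 (by omega)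
      exact htr ⟨fun x y => by
        obtain ⟨g, hg⟩ := Quotient.exact' (Subsingleton.elim (q y) (q x))
        exact ⟨g, hg⟩⟩
    have h := kcl_le_of_parts ih' q Quotient.mk''_surjective
      (fun g x => Quotient.sound' ⟨g, rfl⟩) hι
    exact h.trans (Nat.pow_le_pow_right (by norm_num) (by omega))
  haveI := htr
  by_cases hprim : IsPreprimitive S Ω
  · exact (kcl_le_card S).trans (hn ▸ card_le_of_primitive hprim (by omega))
  -- blocks
  obtain ⟨B, hB, hne⟩ : ∃ B : Set Ω, IsBlock S B ∧ ¬ IsTrivialBlock B := by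
    by_contra h
    push Not at h
    exact hprim { isTrivialBlock_of_isBlock := fun hB => h _ hB }
  have hB0 : B.Nonempty := Set.nonempty_iff_ne_empty.2 fun e => hne (Or.inl (by rw [e]; exact Set.subsingleton_empty))
  have hsys := hB.isBlockSystem hB0
  let Y := Set.range fun g : S => g • B
  have hblock : ∀ x : Ω, ∃! b, b ∈ Y ∧ x ∈ b := hsys.1.2
  choose blk hblk huniq using hblock
  let q : Ω → Y := fun x => ⟨blk x, (hblk x).1⟩
  have : Fintype Y := Fintype.ofFinite Y
  have hq : Function.Surjective q := by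
    rintro ⟨_, g, rfl⟩
    obtain ⟨x, hx⟩ := hB0
    exact ⟨g • x, Subtype.ext (huniq _ _ ⟨⟨g, rfl⟩, Set.smul_mem_smul_set hx⟩).symm⟩
  let ψ : S →* Equiv.Perm Y := MonoidHom.mk' (fun g =>
      { toFun := fun b => ⟨g • (b : Set Ω), by
          obtain ⟨h, hh⟩ := b.2; exact ⟨g * h, by rw [← hh]; exact mul_smul g h B⟩⟩
        invFun := fun b => ⟨g⁻¹ • (b : Set Ω), by
          obtain ⟨h, hh⟩ := b.2; exact ⟨g⁻¹ * h, by rw [← hh]; exact mul_smul g⁻¹ h B⟩⟩
        left_inv := fun b => Subtype.ext (inv_smul_smul g _)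
        right_inv := fun b => Subtype.ext (smul_inv_smul g _) })
    fun g h => Equiv.ext fun b => Subtype.ext (mul_smul g h _)
  have hY2 : 2 ≤ Nat.card Y := by
    by_contra hle
    have : Subsingleton Y := Finite.card_le_one_iff_subsingleton.1 (by omega)
    refine hne (Or.inr (Set.eq_univ_of_forall fun x => ?_))
    have e := congrArg Subtype.val (Subsingleton.elim (q x) ⟨B, 1, one_smul S B⟩)
    have h1 := (hblk x).2
    simp only [q] at e
    rwa [e] at h1
  have hYlt : Nat.card Y < Nat.card Ω := by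
    refine lt_of_le_of_ne (Nat.card_le_card_of_surjective q hq) fun e => hne (Or.inl ?_)
    have hinj : Function.Injective q := (hq.bijective_of_nat_card_le (le_of_eq e.symm)).1
    intro x hx y hy
    refine hinj (Subtype.ext ?_)
    show blk x = blk y
    rw [← huniq x B ⟨⟨1, one_smul S B⟩, hx⟩, ← huniq y B ⟨⟨1, one_smul S B⟩, hy⟩]
  have hker : kcl ψ.ker ≤ 3 ^ (Nat.card Ω - Nat.card Y) := by
    refine kcl_le_of_parts ih' q hq (fun g x => ?_) hY2
    have h1 : (g : S) • blk x = blk x := by
      have := Equiv.ext_iff.1 (MonoidHom.mem_ker.1 g.2) (q x)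
      exact congrArg Subtype.val this
    refine Subtype.ext (huniq ((g : S) • x) _ ⟨(hblk x).1, ?_⟩).symm
    rw [← h1]
    exact Set.smul_mem_smul_set (hblk x).2
  have hrange : kcl ψ.range ≤ 3 ^ (Nat.card Y - 1) :=
    ih (Nat.card Y) (hn ▸ hYlt) Y ψ.range rfl
      (Group.isSolvable_of_surjective (f := ψ.rangeRestrict) ψ.rangeRestrict_surjective)
  calc kcl S ≤ kcl ψ.ker * kcl ψ.range := kcl_le_ker_range ψ
    _ ≤ 3 ^ (Nat.card Ω - Nat.card Y) * 3 ^ (Nat.card Y - 1) := Nat.mul_le_mul hker hrange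
    _ = _ := by rw [← pow_add]; congr 1; omega

end CfsgLib.ClassBounds
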