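import Mathlib
import Cfsg.Agent.S4201
import Cfsg.Agent.S4200
import Cfsg.Agent.Lib.ClassSizes.Counting
import Cfsg.Agent.Lib.CharAction.Solvable

/-!
# Bounds for class numbers
-/

set_option autoImplicit false
set_option linter.all false

namespace CfsgLib.ClassBounds

open scoped Classical

/-- The number of conjugacy classes. -/
noncomputable abbrev kcl (G : Type*) [Group G] : ℕ := Nat.card (ConjClasses G)

theorem kcl_congr {G H : Type*} [Group G] [Group H] (e : G ≃* H) : kcl G = kcl H :=
  CfsgLib.CharAction.card_conjClasses_congr e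

theorem kcl_le_card (G : Type*) [Group G] [Finite G] : kcl G ≤ Nat.card G :=
  Nat.card_le_card_of_surjective _ ConjClasses.mk_surjective

theorem kcl_le_mul {G : Type*} [Group G] [Finite G] (N : Subgroup G) [N.Normal] :
    kcl G ≤ kcl N * kcl (G ⧸ N) :=
  Cfsg.Agent.S4201.result N

theorem kcl_le_index_mul {G : Type*} [Group G] [Finite G] (H : Subgroup G) :
    kcl G ≤ H.index * kcl H :=
  (Cfsg.Agent.S4200.result H).2.1

theorem kcl_range_of_injective {G H : Type*} [Group G] [Group H] (f : G →* H)
    (hf : Function.Injective f) : kcl f.range = kcl G :=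
  (kcl_congr (MonoidHom.ofInjective hf)).symm

theorem kcl_quotient_ker {G H : Type*} [Group G] [Group H] (f : G →* H) :
    kcl (G ⧸ f.ker) = kcl f.range :=
  kcl_congr (QuotientGroup.quotientKerEquivRange f)

theorem kcl_le_ker_range {G H : Type*} [Group G] [Finite G] [Group H] (f : G →* H) :
    kcl G ≤ kcl f.ker * kcl f.range :=
  (kcl_le_mul f.ker).trans (le_of_eq (by rw [kcl_quotient_ker]))

/-- A group embedded in a product has at most as many classes as the bounds for the subgroups of
the images allow. -/
theorem kcl_le_prod {ι : Type*} (T : Finset ι) {G : Type*} [Group G] [Finite G] {Q : ι → Type*}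
    [∀ i, Group (Q i)] (φ : ∀ i, G →* Q i) (b : ι → ℕ)
    (hb : ∀ i ∈ T, ∀ H : Subgroup G, kcl (H.map (φ i)) ≤ b i)
    (H : Subgroup G) (hinj : ∀ g ∈ H, (∀ i ∈ T, φ i g = 1) → g = 1) :
    kcl H ≤ ∏ i ∈ T, b i := by
  induction T using Finset.induction_on generalizing H with
  | empty =>
    have : H = ⊥ := (Subgroup.eq_bot_iff_forall _).2 fun g hg => hinj g hg (by simp)
    subst this
    simpa using kcl_le_card (⊥ : Subgroup G)
  | insert i T hi ih =>
    rw [Finset.prod_insert hi, mul_comm]
    let f : H →* Q i := (φ i).comp H.subtype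
    have e1 : kcl f.range ≤ b i := by
      have : f.range = H.map (φ i) := by
        rw [MonoidHom.range_comp, Subgroup.range_subtype]
      rw [kcl_congr (MulEquiv.subgroupCongr this)]
      exact hb i (Finset.mem_insert_self _ _) H
    have e2 : kcl f.ker ≤ ∏ j ∈ T, b j := by
      rw [kcl_congr (f.ker.equivMapOfInjective H.subtype H.subtype_injective)]
      refine ih (fun j hj => hb j (Finset.mem_insert_of_mem hj)) _ ?_
      rintro _ ⟨g, hg, rfl⟩ h
      refine hinj g g.2 fun j hj => ?_
      rcases Finset.mem_insert.1 hj with rfl | hj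
      · exact hg
      · exact h j hj
    exact (kcl_le_ker_range f).trans (Nat.mul_le_mul e2 e1)

/-- If at most `c` elements have centralisers of order above `b`, then
`k(G)|G| ≤ c|G| + (|G| - c) b`. -/
theorem kcl_mul_card_le {G : Type*} [Group G] [Finite G] (T : Set G) (b : ℕ)
    (hT : ∀ g ∉ T, Nat.card (Subgroup.centralizer ({g} : Set G)) ≤ b) :
    kcl G * Nat.card G ≤ Nat.card T * Nat.card G + (Nat.card G - Nat.card T) * b := by
  have := Fintype.ofFinite G
  rw [← CfsgLib.ClassSizes.sum_card_centralizer G,
    ← Finset.sum_filter_add_sum_filter_not Finset.univ (fun g => g ∈ T)]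
  refine Nat.add_le_add ?_ ?_
  · refine (Finset.sum_le_card_nsmul _ _ (Nat.card G) fun g _ => ?_).trans (le_of_eq ?_)
    · exact Subgroup.card_le_card_group _
    · rw [smul_eq_mul]
      congr 1
      rw [← Nat.card_eq_finsetCard]
      exact Nat.card_congr (Equiv.subtypeEquivRight fun g => by simp)
  · refine (Finset.sum_le_card_nsmul _ _ b fun g hg => hT g (Finset.mem_filter.1 hg).2).trans
      (le_of_eq ?_)
    rw [smul_eq_mul]
    congr 1
    rw [Finset.filter_not, Finset.card_sdiff, Finset.inter_univ, Finset.card_univ, ← Nat.card_eq_fintype_card,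
      ← Nat.card_eq_finsetCard]
    congr 1
    exact Nat.card_congr (Equiv.subtypeEquivRight fun g => by simp)

/-- A group that is not abelian has at most five eighths as many classes as elements. -/
theorem eight_kcl_le {G : Type*} [Group G] [Finite G] (h : ∃ a b : G, a * b ≠ b * a) :
    8 * kcl G ≤ 5 * Nat.card G := by
  obtain ⟨a, b, hab⟩ := h
  set Z := Subgroup.center G
  have hZ : 4 * Nat.card Z ≤ Nat.card G := by
    have h1 := Z.index_mul_card
    have h2 : 4 ≤ Z.index := by
      by_contra hlt
      have h3 : IsCyclic (G ⧸ Z) := by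
        have hne : Z.index ≠ 0 := Subgroup.index_ne_zero_of_finite
        have : Z.index = 1 ∨ Z.index = 2 ∨ Z.index = 3 := by omega
        rcases this with e | e | e
        · have : Subsingleton (G ⧸ Z) :=
            (Nat.card_eq_one_iff_unique.1 (e ▸ (Subgroup.index_eq_card Z).symm)).1
          infer_instance
        · have := Fact.mk Nat.prime_two
          exact isCyclic_of_prime_card (p := 2) ((Subgroup.index_eq_card Z).symm.trans e)
        · have := Fact.mk Nat.prime_three
          exact isCyclic_of_prime_card (p := 3) ((Subgroup.index_eq_card Z).symm.trans e)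
      exact hab ((commutative_of_cyclic_center_quotient (QuotientGroup.mk' Z)
        (by rw [QuotientGroup.ker_mk'])) a b)
    calc 4 * Nat.card Z ≤ Z.index * Nat.card Z := Nat.mul_le_mul_right _ h2
      _ = Nat.card G := h1
  have hC : ∀ g ∉ (Z : Set G), 2 * Nat.card (Subgroup.centralizer ({g} : Set G)) ≤ Nat.card G := by
    intro g hg
    have h1 := (Subgroup.centralizer ({g} : Set G)).index_mul_card
    have h2 : 2 ≤ (Subgroup.centralizer ({g} : Set G)).index := by
      refine Subgroup.one_lt_index_of_ne_top fun e => hg ?_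
      rw [SetLike.mem_coe, Subgroup.mem_center_iff]
      intro x
      have : x ∈ Subgroup.centralizer ({g} : Set G) := e ▸ Subgroup.mem_top x
      exact Subgroup.mem_centralizer_singleton_iff.1 this
    calc _ ≤ (Subgroup.centralizer ({g} : Set G)).index * Nat.card (Subgroup.centralizer ({g} : Set G)) :=
          Nat.mul_le_mul_right _ h2
      _ = _ := h1
  have h3 := kcl_mul_card_le (Z : Set G) (Nat.card G / 2) fun g hg => by
    have := hC g hg
    omega
  have hcard : Nat.card (Z : Set G) = Nat.card Z := rfl
  rw [hcard] at h3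
  have hpos : 0 < Nat.card G := Nat.card_pos
  refine Nat.le_of_mul_le_mul_right (c := 1) ?_ Nat.one_pos
  refine Nat.le_of_mul_le_mul_right ?_ hpos
  have h4 : 2 * (Nat.card G / 2) ≤ Nat.card G := Nat.mul_div_le _ _
  obtain ⟨r, hr⟩ := Nat.le.dest (show Nat.card Z ≤ Nat.card G by omega)
  rw [← hr, Nat.add_sub_cancel_left] at h3
  rw [← hr] at hZ h4 ⊢
  have h5 := Nat.mul_le_mul_left r h4
  have h6 := Nat.mul_le_mul_right (Nat.card Z + r) hZ
  ring_nf at h3 h5 h6 ⊢
  linarith

/-- A non-trivial module element bound: a group acting faithfully on an elementary abelian group is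
determined by the images of a basis. -/
theorem card_le_descFactorial {r : ℕ} [Fact r.Prime] {M : Type*} [AddCommGroup M] [Finite M]
    (hexp : ∀ v : M, r • v = 0) {H : Type*} [Group H] [DistribMulAction H M]
    (hfaith : ∀ h : H, (∀ v : M, h • v = v) → h = 1) :
    ∃ a : ℕ, Nat.card M = r ^ a ∧ Nat.card H ≤ (Nat.card M - 1).descFactorial a := by
  letI : Module (ZMod r) M := AddCommGroup.zmodModule (n := r) hexp
  refine ⟨Module.finrank (ZMod r) M, by rw [Module.natCard_eq_pow_finrank (K := ZMod r), Nat.card_zmod], ?_⟩
  set bs := Module.finBasis (ZMod r) M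
  let Φ : H → (Fin (Module.finrank (ZMod r) M) ↪ {v : M // v ≠ 0}) := fun h =>
    ⟨fun i => ⟨h • bs i, fun e => bs.ne_zero i ((smul_eq_zero_iff_eq h).1 e)⟩,
      fun i j e => bs.injective (MulAction.injective h (congrArg Subtype.val e))⟩
  have hΦ : Function.Injective Φ := by
    intro g h e
    refine inv_mul_eq_one.1 (hfaith (g⁻¹ * h) fun v => ?_)
    let f : M →+ M := DistribMulAction.toAddMonoidHom M (g⁻¹ * h)
    have hfv : f.toZModLinearMap r = LinearMap.id := bs.ext fun i => by
      show (g⁻¹ * h) • bs i = bs i
      rw [mul_smul, inv_smul_eq_iff]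
      exact (congrArg Subtype.val (DFunLike.congr_fun e i)).symm
    exact LinearMap.congr_fun hfv v
  have := Fintype.ofFinite M
  refine (Nat.card_le_card_of_injective Φ hΦ).trans (le_of_eq ?_)
  rw [Nat.card_eq_fintype_card, Fintype.card_embedding_eq, Fintype.card_fin, Fintype.card_subtype_compl,
    Fintype.card_subtype_eq, Nat.card_eq_fintype_card]

end CfsgLib.ClassBounds
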